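import Groth.Agent.MorLib.WeightPositive

/-!
# Quasi-compactness of the sublevel complements of a fibre integral
-/

set_option autoImplicit false
set_option linter.style.haveILetI false
set_option backward.isDefEq.respectTransparency.types false

universe u

open CategoryTheory Limits AlgebraicGeometry Topology Filter
open Groth.Agent.MorLib.GF (pt pt_comp geomSum)

namespace Groth.Agent.MorLib.WT

theorem sum_fiOn_eq_of_covered {T V : Scheme.{u}} {π : T ⟶ V} [LocallyQuasiFinite π] {ι : Type*}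
    [Fintype ι] {W : ι → T.Opens} (hW : ∀ i, IsFinite ((W i).ι ≫ π)) {w : T → ℤ}
    {v : V} (hfin : (π ⁻¹' {v}).Finite) (hdis : ∀ i j, i ≠ j → ∀ t ∈ W i, π t = v → t ∉ W j)
    (hcov : ∀ t, π t = v → ∃ i, t ∈ W i) :
    ∑ i, fiOn π (W i) w v = MoreMor.fibreIntegral π w v := by
  classical
  obtain ⟨Ω, _, _, yb, rfl⟩ := GF.exists_geomPoint v
  haveI := GF.finite_lifts π yb hfin
  let := Fintype.ofFinite (Lifts π yb)
  have hpt : ∀ δ : Lifts π yb, π (pt δ.1) = pt yb := fun δ =>
    (pt_comp δ.1 π).symm.trans (congrArg pt δ.2)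
  rw [GF.fibreIntegral_eq π w yb hfin, geomSum, finsum_eq_sum_of_fintype,
    show (Finset.univ : Finset (Lifts π yb)) =
      Finset.univ.biUnion fun i => Finset.univ.filter fun δ : Lifts π yb => pt δ.1 ∈ W i by
        ext δ; simpa using hcov _ (hpt δ),
    Finset.sum_biUnion fun i _ j _ hij => Finset.disjoint_left.mpr fun δ h1 h2 =>
      hdis i j hij _ (Finset.mem_filter.mp h1).2 (hpt δ) (Finset.mem_filter.mp h2).2]
  refine Finset.sum_congr rfl fun i _ => ?_
  haveI := hW i
  rw [fiOn_eq_finsum π (W i) w yb, finsum_mem_eq_finite_toFinset_sum _ (Set.toFinite _)]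
  congr 1
  ext; simp

variable {X Y : Scheme.{u}} {f : X ⟶ Y} [LocallyQuasiFinite f] [LocallyOfFiniteType f]
  {w : X → ℤ}

theorem separated_decomp_iff [IsSeparated f] (hfin : ∀ y : Y, (f ⁻¹' {y}).Finite)
    (hw : MoreMor.IsWeighting f w) (hpos : ∀ x, 0 < w x) (y : Y) :
    ∃ (T V : Scheme.{u}) (k : T ⟶ X) (π : T ⟶ V) (h : V ⟶ Y) (v : V) (ι : Type u) (_ : Fintype ι)
      (W : ι → T.Opens), IsPullback k π f h ∧ Etale h ∧ h v = y ∧
      ∀ᶠ v' in 𝓝 v, MoreMor.fibreIntegral f w y ≤ MoreMor.fibreIntegral f w (h v') ∧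
        (MoreMor.fibreIntegral f w y = MoreMor.fibreIntegral f w (h v') ↔
          ∀ t, π t = v' → ∃ i, t ∈ W i) := by
  obtain ⟨Ω, _, _, yb, rfl⟩ := GF.exists_geomPoint y
  haveI := GF.finite_lifts f yb (hfin _)
  obtain ⟨T, V, k, π, h, vb, W, δ, hc, he, rfl, hp⟩ := exists_decomp f yb id
  haveI : LocallyQuasiFinite π := MorphismProperty.of_isPullback hc inferInstance
  haveI : IsSeparated π := MorphismProperty.of_isPullback hc inferInstance
  let := Fintype.ofFinite (Lifts f (vb ≫ h))
  refine ⟨T, V, k, π, h, pt vb, _, inferInstance, W, hc, he, (pt_comp vb h).symm, ?_⟩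
  have hne : ∀ i j, i ≠ j → δ i ≠ δ j := fun i j hij e =>
    hij (Subtype.ext ((hp i).2.symm.trans ((congrArg (· ≫ k) e).trans (hp j).2)))
  have h2 : ∀ᶠ v' in 𝓝 (pt vb), ∀ i j, i ≠ j → ∀ t ∈ W i, π t = v' → t ∉ W j := by
    simp only [eventually_all]
    exact fun i j hij => (hp i).1.eventually_disjoint (hp j).1 (hne i j hij)
  have h3 : ∀ᶠ v' in 𝓝 (pt vb), ∀ i, fiOn π (W i) (w ∘ ⇑k) v' = w (pt i.1) :=
    eventually_all.mpr fun i => by
      filter_upwards [eventually_piece_eq hw hc (hp i).1] with v' hv'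
      rw [hv', (hp i).1.fiOn_eq]
      exact congrArg w ((pt_comp (δ i) k).symm.trans (congrArg pt (hp i).2))
  have hsum : MoreMor.fibreIntegral f w (pt (vb ≫ h)) = ∑ i : Lifts f (vb ≫ h), w (pt i.1) := by
    rw [GF.fibreIntegral_eq f w _ (hfin _), geomSum, finsum_eq_sum_of_fintype]
  filter_upwards [h2, h3] with v' a b
  have := le_fibreIntegral (w := w ∘ ⇑k) (fun i => (hp i).1.finite) (fun t => hpos _)
    (GF.finite_preimage_baseChange hc v' (hfin _)) a
  have heq := sum_fiOn_eq_of_covered (w := w ∘ ⇑k) (fun i => (hp i).1.finite)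
    (GF.finite_preimage_baseChange hc v' (hfin _)) a
  rw [GF.fibreIntegral_baseChange hc w v' (hfin _), Finset.sum_congr rfl (fun i _ => b i),
    ← hsum] at this heq
  exact ⟨this.1, this.2, heq⟩

theorem isCompact_superlevel_of_ge [IsSeparated f] [QuasiCompact f]
    (hw : MoreMor.IsWeighting f w) (hpos : ∀ x, 0 < w x) (n : ℤ) :
    ∀ (k : ℕ) (m : ℤ), n + 1 - m ≤ k → ∀ V : Y.Opens, IsCompact (V : Set Y) →
      (∀ y ∈ V, m ≤ MoreMor.fibreIntegral f w y) →
      IsCompact ((V : Set Y) ∩ {y | n < MoreMor.fibreIntegral f w y}) := by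
  classical
  have hfin : ∀ y : Y, (f ⁻¹' {y}).Finite := fun y => f.finite_preimage_singleton y
  intro k
  induction k with
  | zero =>
    intro m hm V hV hge
    rw [Set.inter_eq_left.mpr (show (V : Set Y) ⊆ {y | n < MoreMor.fibreIntegral f w y} from
      fun y hy => show n < MoreMor.fibreIntegral f w y by have := hge y hy; omega)]
    exact hV
  | succ k ih =>
    intro m hm V hV hge
    have key : ∀ y ∈ V, ∃ O : Y.Opens, y ∈ O ∧ O ≤ V ∧
        IsCompact ((O : Set Y) ∩ {y | n < MoreMor.fibreIntegral f w y}) := by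
      intro y hy
      obtain ⟨T, V', g, π, h, v, ι, _, W, hc, he, rfl, hev⟩ := separated_decomp_iff hfin hw hpos y
      obtain ⟨S, hS, hSo, hvS⟩ := mem_nhds_iff.mp
        (hev.and (h.continuous.continuousAt.eventually (V.2.mem_nhds hy)))
      obtain ⟨N, hNa, hvN, hNS⟩ := exists_isAffineOpen_mem_and_subset (x := v) (U := ⟨S, hSo⟩) hvS
      let O : Y.Opens := ⟨h '' N, h.isOpenMap _ N.2⟩
      have hO : ∀ y' ∈ O, y' ∈ V := by
        rintro _ ⟨v', hv', rfl⟩; exact (hS (hNS hv')).2
      refine ⟨O, ⟨v, hvN, rfl⟩, fun y' hy' => hO y' hy', ?_⟩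
      have hOc : IsCompact (O : Set Y) := hNa.isCompact.image h.continuous
      by_cases hgt : m < MoreMor.fibreIntegral f w (h v)
      · refine ih (m + 1) (by omega) O hOc ?_
        rintro _ ⟨v', hv', rfl⟩
        have := (hS (hNS hv')).1.1
        omega
      · have hm' : MoreMor.fibreIntegral f w (h v) = m := by have := hge _ hy; omega
        haveI : QuasiCompact π := MorphismProperty.of_isPullback hc inferInstance
        let R : Set T := π ⁻¹' N \ ⋃ i, (W i : Set T)
        have hR : IsCompact R := (π.isCompact_preimage hNa.isCompact).diff (isOpen_iUnion fun i => (W i).2)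
        let P : Y.Opens := ⟨(O : Set Y) ∩ MoreMor.fibreIntegral f w ⁻¹' Set.Ioi m,
          O.2.inter ((lowerSemicontinuous_fibreIntegral hfin hw hpos).isOpen_preimage m)⟩
        have hP : (P : Set Y) = h '' (π '' R) := by
          ext y'
          constructor
          · rintro ⟨⟨v', hv', rfl⟩, hlt⟩
            have hne : ¬ ∀ t, π t = v' → ∃ i, t ∈ W i := fun hall => by
              have := (hS (hNS hv')).1.2.mpr hall
              change m < _ at hlt
              omega
            push Not at hne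
            obtain ⟨t, ht, htW⟩ := hne
            exact ⟨v', ⟨t, ⟨show π t ∈ N from ht ▸ hv', by simpa using htW⟩, ht⟩, rfl⟩
          · rintro ⟨v', ⟨t, ⟨htN, htW⟩, rfl⟩, rfl⟩
            refine ⟨⟨_, htN, rfl⟩, ?_⟩
            have h1 := (hS (hNS htN)).1
            show m < _
            by_contra hle
            obtain ⟨i, hi⟩ := h1.2.mp (by omega) t rfl
            exact htW (Set.mem_iUnion.mpr ⟨i, hi⟩)
        have hPc : IsCompact (P : Set Y) := hP ▸ (hR.image π.continuous).image h.continuous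
        by_cases hnm : n < m
        · rw [Set.inter_eq_left.mpr (show (O : Set Y) ⊆ {y | n < MoreMor.fibreIntegral f w y} from
            fun y' hy' => show n < MoreMor.fibreIntegral f w y' by have := hge y' (hO y' hy'); omega)]
          exact hOc
        · have := ih (m + 1) (by omega) P hPc (fun y' hy' => hy'.2)
          convert this using 1
          ext y'
          exact ⟨fun ⟨h1, h2⟩ => ⟨⟨h1, show m < _ by change n < _ at h2; omega⟩, h2⟩, fun ⟨h1, h2⟩ => ⟨h1.1, h2⟩⟩
    choose! O hyO hOV hOc using key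
    obtain ⟨F, hFV, hFfin, hF⟩ := hV.elim_finite_subcover_image (b := (V : Set Y)) (c := fun y => (O y : Set Y))
      (fun y _ => (O y).2) fun y hy => Set.mem_iUnion₂.mpr ⟨y, hy, hyO y hy⟩
    rw [show (V : Set Y) ∩ {y | n < MoreMor.fibreIntegral f w y} =
      ⋃ y ∈ F, ((O y : Set Y) ∩ {y | n < MoreMor.fibreIntegral f w y}) by
        ext y'
        simp only [Set.mem_inter_iff, Set.mem_iUnion]
        exact ⟨fun ⟨h1, h2⟩ => let ⟨y, hy, h3⟩ := Set.mem_iUnion₂.mp (hF h1); ⟨y, hy, h3, h2⟩,
          fun ⟨y, hy, h3, h2⟩ => ⟨hOV y (hFV hy) h3, h2⟩⟩]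
    exact hFfin.isCompact_biUnion fun y hy => hOc y (hFV hy)

/-- The superlevel sets of the fibre integral are quasi-compact on quasi-compact opens. -/
theorem isCompact_superlevel [IsSeparated f] [QuasiCompact f]
    (hw : MoreMor.IsWeighting f w) (hpos : ∀ x, 0 < w x) (n : ℤ) (V : Y.Opens) (hV : IsCompact (V : Set Y)) :
    IsCompact ((V : Set Y) ∩ {y | n < MoreMor.fibreIntegral f w y}) := by
  refine isCompact_superlevel_of_ge hw hpos n (n + 1).toNat 0 (by omega) V hV fun y _ => ?_
  have hfin : (f ⁻¹' {y}).Finite := f.finite_preimage_singleton y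
  have := (le_fibreIntegral (π := f) (W := fun i : PEmpty.{1} => i.elim) (fun i => i.elim) hpos hfin
    fun i => i.elim).1
  simpa using this

end Groth.Agent.MorLib.WT
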