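import Groth.Agent.MorLib.Descend
import Groth.Agent.MorLib.WeightPositive
import Groth.Agent.LimChev.Main

/-!
# Affineness of a quasi-compact open of an affine scheme is tested on integral closed subschemes
-/

set_option autoImplicit false
set_option linter.style.haveILetI false
set_option backward.isDefEq.respectTransparency.types false

open AlgebraicGeometry CategoryTheory Limits TopologicalSpace Topology

namespace Groth.Agent.IrredTest

universe u

variable (A : CommRingCat.{u})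

/-- The closed subscheme of an ideal. -/
noncomputable abbrev qm (I : Ideal A) : Spec (CommRingCat.of (A ⧸ I)) ⟶ Spec A :=
  Spec.map (CommRingCat.ofHom (Ideal.Quotient.mk I))

theorem qm_factor {I J : Ideal A} (h : I ≤ J) :
    Spec.map (CommRingCat.ofHom (Ideal.Quotient.factor h)) ≫ qm A I = qm A J := by
  rw [qm, qm, ← Spec.map_comp]
  rfl

variable {A} (c : Set (Ideal A)) (hc : IsChain (· ≤ ·) c)

/-- The quotient rings along a chain of ideals. -/
noncomputable def rings : ↥c ⥤ CommRingCat.{u} where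
  obj I := CommRingCat.of (A ⧸ I.1)
  map {I J} h := CommRingCat.ofHom (Ideal.Quotient.factor (show I.1 ≤ J.1 from leOfHom h))
  map_id I := by ext x; rfl
  map_comp f g := by ext x; rfl

/-- The cocone to the quotient by the union. -/
noncomputable def cocone : Cocone (rings c) where
  pt := CommRingCat.of (A ⧸ sSup c)
  ι := { app := fun I => CommRingCat.ofHom (Ideal.Quotient.factor (le_sSup I.2))
         naturality := fun I J h => by
             ext x
             obtain ⟨a, rfl⟩ := Ideal.Quotient.mk_surjective (I := I.1) x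
             rfl }

include hc in
theorem nonempty_isColimit (hne : c.Nonempty) : Nonempty (IsColimit (cocone c)) := by
  haveI : Nonempty ↥c := hne.to_subtype
  haveI : IsDirectedOrder ↥c := ⟨fun I J => by
    rcases hc.total I.2 J.2 with h | h
    · exact ⟨J, h, le_refl _⟩
    · exact ⟨I, le_refl _, h⟩⟩
  haveI : ReflectsColimit (rings c) (forget CommRingCat.{u}) := reflectsColimit_of_reflectsIsomorphisms _ _
  refine ⟨isColimitOfReflects (forget CommRingCat.{u}) ?_⟩
  refine Types.FilteredColimit.isColimitOf' _ _ (fun z => ?_) fun I x y h => ?_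
  · obtain ⟨a, rfl⟩ := Ideal.Quotient.mk_surjective (I := sSup c) z
    exact ⟨⟨_, hne.some_mem⟩, Ideal.Quotient.mk _ a, rfl⟩
  · obtain ⟨a, rfl⟩ := Ideal.Quotient.mk_surjective (I := I.1) x
    obtain ⟨b, rfl⟩ := Ideal.Quotient.mk_surjective (I := I.1) y
    have h' : a - b ∈ sSup c := (Ideal.Quotient.mk_eq_mk_iff_sub_mem a b).mp h
    obtain ⟨J, hJ, hab⟩ := (Submodule.mem_sSup_of_directed hne hc.directedOn).mp h'
    obtain ⟨K, hIK, hJK⟩ := exists_ge_ge I ⟨J, hJ⟩
    exact ⟨K, homOfLE hIK, (Ideal.Quotient.mk_eq_mk_iff_sub_mem a b).mpr (hJK hab)⟩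

include hc in
theorem exists_mem_isAffineOpen (hne : c.Nonempty) (U : (Spec A).Opens) (hU : IsCompact (U : Set (Spec A)))
    (h : IsAffineOpen (qm A (sSup c) ⁻¹ᵁ U)) : ∃ I ∈ c, IsAffineOpen (qm A I ⁻¹ᵁ U) := by
  haveI : Nonempty ↥c := hne.to_subtype
  haveI : IsDirectedOrder ↥c := ⟨fun I J => by
    rcases hc.total I.2 J.2 with h | h
    · exact ⟨J, h, le_refl _⟩
    · exact ⟨I, le_refl _, h⟩⟩
  obtain ⟨hcol⟩ := nonempty_isColimit c hc hne
  let D : (↥c)ᵒᵖ ⥤ Scheme.{u} := (rings c).op ⋙ Scheme.Spec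
  let cn : Cone D := Scheme.Spec.mapCone (cocone c).op
  have hlim : IsLimit cn := isLimitOfPreserves Scheme.Spec hcol.op
  haveI : ∀ {i j : (↥c)ᵒᵖ} (f : i ⟶ j), IsAffineHom (D.map f) := fun {i j} f =>
    @isAffineHom_of_isAffine _ _ _ (isAffine_Spec _) (isAffine_Spec _)
  let i₀ : (↥c)ᵒᵖ := Opposite.op ⟨_, hne.some_mem⟩
  haveI : IsAffine (D.obj i₀) := isAffine_Spec _
  let V₀ : (D.obj i₀).Opens := qm A i₀.unop.1 ⁻¹ᵁ U
  haveI : CompactSpace V₀ := isCompact_iff_compactSpace.mp ((qm A i₀.unop.1).isCompact_preimage hU)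
  haveI : QuasiCompact V₀.ι := quasiCompact_of_compactSpace _
  have hπ : cn.π.app i₀ ⁻¹ᵁ V₀ = qm A (sSup c) ⁻¹ᵁ U := by
    rw [← qm_factor A (le_sSup i₀.unop.2)]
    rfl
  have hlimaff : IsAffineHom (pullback.snd V₀.ι (cn.π.app i₀)) := by
    haveI : IsAffine (cn.π.app i₀ ⁻¹ᵁ V₀).toScheme := hπ ▸ h
    haveI : IsAffine (((Functor.const (↥c)ᵒᵖ).obj cn.pt).obj i₀) := isAffine_Spec _
    exact MorLib.Desc.of_two @IsAffineHom (isPullback_morphismRestrict (cn.π.app i₀) V₀)
      (IsPullback.of_hasPullback _ _) (isAffineHom_of_isAffine _)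
  haveI : CompactSpace (D.obj i₀) := inferInstance
  obtain ⟨j, φ, hj⟩ := MorLib.Desc.descend D cn hlim i₀ MorLib.Desc.core_affine V₀.ι trivial hlimaff
  refine ⟨j.unop.1, j.unop.2, ?_⟩
  have e : D.map φ ⁻¹ᵁ V₀ = qm A j.unop.1 ⁻¹ᵁ U := by
    rw [← qm_factor A (show i₀.unop.1 ≤ j.unop.1 from leOfHom φ.unop)]
    rfl
  rw [← e]
  have hj' : IsAffineHom (D.map φ ⁻¹ᵁ V₀).ι :=
    MorLib.Desc.of_two @IsAffineHom (IsPullback.of_hasPullback _ _) (isPullback_morphismRestrict (D.map φ) V₀) hj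
  haveI : IsAffine (D.obj j) := isAffine_Spec _
  exact @isAffine_of_isAffineHom _ _ (D.map φ ⁻¹ᵁ V₀).ι hj' inferInstance

theorem isAffineOpen_of_mul_mem (U : (Spec A).Opens) (I : Ideal A) {x y : A} (hxy : x * y ∈ I)
    (hx : IsAffineOpen (qm A (I ⊔ Ideal.span {x}) ⁻¹ᵁ U)) (hy : IsAffineOpen (qm A (I ⊔ Ideal.span {y}) ⁻¹ᵁ U)) :
    IsAffineOpen (qm A I ⁻¹ᵁ U) := by
  let a := Spec.map (CommRingCat.ofHom (Ideal.Quotient.factor (le_sup_left : I ≤ I ⊔ Ideal.span {x})))
  let b := Spec.map (CommRingCat.ofHom (Ideal.Quotient.factor (le_sup_left : I ≤ I ⊔ Ideal.span {y})))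
  let W := qm A I ⁻¹ᵁ U
  haveI : IsAffine (a ⁻¹ᵁ W).toScheme := by
    have : a ⁻¹ᵁ W = qm A (I ⊔ Ideal.span {x}) ⁻¹ᵁ U := by
      rw [← qm_factor A (le_sup_left : I ≤ I ⊔ Ideal.span {x})]; rfl
    exact this ▸ hx
  haveI : IsAffine (b ⁻¹ᵁ W).toScheme := by
    have : b ⁻¹ᵁ W = qm A (I ⊔ Ideal.span {y}) ⁻¹ᵁ U := by
      rw [← qm_factor A (le_sup_left : I ≤ I ⊔ Ideal.span {y})]; rfl
    exact this ▸ hy
  haveI : IsClosedImmersion a := IsClosedImmersion.spec_of_surjective _ (Ideal.Quotient.factor_surjective le_sup_left)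
  haveI : IsClosedImmersion b := IsClosedImmersion.spec_of_surjective _ (Ideal.Quotient.factor_surjective le_sup_left)
  haveI : IsClosedImmersion (a ∣_ W) := MorphismProperty.of_isPullback (isPullback_morphismRestrict a W).flip inferInstance
  haveI : IsClosedImmersion (b ∣_ W) := MorphismProperty.of_isPullback (isPullback_morphismRestrict b W).flip inferInstance
  let s := coprod.desc (a ∣_ W) (b ∣_ W)
  haveI : Surjective s := by
    refine ⟨fun w => ?_⟩
    let p : PrimeSpectrum (A ⧸ I) := w.1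
    have hprod : Ideal.Quotient.mk I x ∈ p.asIdeal ∨ Ideal.Quotient.mk I y ∈ p.asIdeal :=
      p.isPrime.mem_or_mem (by rw [← map_mul, Ideal.Quotient.eq_zero_iff_mem.mpr hxy]; exact p.asIdeal.zero_mem)
    have key : ∀ z : A, Ideal.Quotient.mk I z ∈ p.asIdeal → p ∈ Set.range (PrimeSpectrum.comap
        (Ideal.Quotient.factor (le_sup_left : I ≤ I ⊔ Ideal.span {z}))) := by
      intro z hz
      rw [range_comap_of_surjective _ _ (Ideal.Quotient.factor_surjective le_sup_left),
        PrimeSpectrum.mem_zeroLocus, SetLike.coe_subset_coe, Ideal.Quotient.factor_ker, Ideal.map_sup,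
        Ideal.map_quotient_self, bot_sup_eq, Ideal.map_span, Set.image_singleton, Ideal.span_le,
        Set.singleton_subset_iff]
      exact hz
    rcases hprod with h | h
    · obtain ⟨v, hv⟩ := key x h
      refine ⟨coprodMk _ _ (.inl ⟨v, show a v ∈ W from ?_⟩), ?_⟩
      · exact (show a v = w.1 from hv) ▸ w.2
      · rw [coprodMk_inl, ← Scheme.Hom.comp_apply, coprod.inl_desc]
        exact Subtype.ext ((morphismRestrict_base_coe a W _).trans hv)
    · obtain ⟨v, hv⟩ := key y h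
      refine ⟨coprodMk _ _ (.inr ⟨v, show b v ∈ W from ?_⟩), ?_⟩
      · exact (show b v = w.1 from hv) ▸ w.2
      · rw [coprodMk_inr, ← Scheme.Hom.comp_apply, coprod.inr_desc]
        exact Subtype.ext ((morphismRestrict_base_coe b W _).trans hv)
  haveI : UniversallyClosed s := by
    refine MorLib.WT.universallyClosed_of_cover s
      (fun t : Bool => if t then (coprod.inl : (a ⁻¹ᵁ W).toScheme ⟶ _).opensRange
        else (coprod.inr : (b ⁻¹ᵁ W).toScheme ⟶ _).opensRange) (fun t => ?_) ?_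
    · obtain ⟨t | t, rfl⟩ := (coprodMk _ _).surjective t
      · exact ⟨true, t, (coprodMk_inl _ _ t).symm⟩
      · exact ⟨false, t, (coprodMk_inr _ _ t).symm⟩
    · intro t
      cases t
      · show UniversallyClosed ((coprod.inr : (b ⁻¹ᵁ W).toScheme ⟶ _).opensRange.ι ≫ s)
        rw [← Scheme.Hom.isoOpensRange_inv_comp, Category.assoc, coprod.inr_desc]
        infer_instance
      · show UniversallyClosed ((coprod.inl : (a ⁻¹ᵁ W).toScheme ⟶ _).opensRange.ι ≫ s)
        rw [← Scheme.Hom.isoOpensRange_inv_comp, Category.assoc, coprod.inl_desc]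
        infer_instance
  exact LimChev.isAffine_of_surjective s

/-- A quasi-compact open is affine if its intersection with every integral closed subscheme is. -/
theorem isAffineOpen_of_forall_prime (A : CommRingCat.{u}) (U : (Spec A).Opens)
    (hU : IsCompact (U : Set (Spec A)))
    (h : ∀ p : Ideal A, p.IsPrime → IsAffineOpen (qm A p ⁻¹ᵁ U)) : IsAffineOpen U := by
  by_contra hU'
  have hbot : ¬ IsAffineOpen (qm A ⊥ ⁻¹ᵁ U) := by
    intro h'
    haveI : IsIso (qm A ⊥) := by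
      haveI : IsIso (CommRingCat.ofHom (Ideal.Quotient.mk (⊥ : Ideal A))) :=
        (ConcreteCategory.isIso_iff_bijective _).mpr
          ⟨(RingHom.injective_iff_ker_eq_bot _).mpr Ideal.mk_ker, Ideal.Quotient.mk_surjective⟩
      infer_instance
    have := h'.image_of_isOpenImmersion (qm A ⊥)
    rw [Scheme.Hom.image_preimage_eq_opensRange_inf, Scheme.Hom.opensRange_of_isIso, top_inf_eq] at this
    exact hU' this
  obtain ⟨I, -, hI⟩ := zorn_le_nonempty₀ {I : Ideal A | ¬ IsAffineOpen (qm A I ⁻¹ᵁ U)} (fun c hcs hc J hJ => by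
    refine ⟨sSup c, fun hsup => ?_, fun K hK => le_sSup hK⟩
    obtain ⟨K, hK, hKa⟩ := exists_mem_isAffineOpen c hc ⟨J, hJ⟩ U hU hsup
    exact hcs hK hKa) ⊥ hbot
  have hne : I ≠ ⊤ := by
    rintro rfl
    haveI : IsEmpty (Spec (CommRingCat.of (A ⧸ (⊤ : Ideal A)))) := by
      haveI : Subsingleton (A ⧸ (⊤ : Ideal A)) := Ideal.Quotient.subsingleton_iff.mpr rfl
      exact inferInstanceAs (IsEmpty (PrimeSpectrum (A ⧸ (⊤ : Ideal A))))
    refine hI.prop ?_
    haveI : IsEmpty (qm A ⊤ ⁻¹ᵁ U).toScheme := ⟨fun x => IsEmpty.false (α := Spec (CommRingCat.of (A ⧸ (⊤ : Ideal A)))) x.1⟩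
    exact (isAffine_of_isEmpty : IsAffine (qm A ⊤ ⁻¹ᵁ U).toScheme)
  refine hI.prop (h I ⟨hne, fun {x y} hxy => ?_⟩)
  by_contra hno
  rw [not_or] at hno
  have hx : IsAffineOpen (qm A (I ⊔ Ideal.span {x}) ⁻¹ᵁ U) := by
    by_contra hx
    exact hno.1 ((hI.le_of_ge hx le_sup_left) (Ideal.mem_sup_right (Ideal.mem_span_singleton_self x)))
  have hy : IsAffineOpen (qm A (I ⊔ Ideal.span {y}) ⁻¹ᵁ U) := by
    by_contra hy
    exact hno.2 ((hI.le_of_ge hy le_sup_left) (Ideal.mem_sup_right (Ideal.mem_span_singleton_self y)))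
  exact hI.prop (isAffineOpen_of_mul_mem U I hxy hx hy)

end Groth.Agent.IrredTest
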