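import Groth.Agent.S1418
import Groth.Agent.S1419
import Groth.Agent.S1420
import Groth.Agent.MorLib.WeightPositive
import Groth.Agent.MorLib.WeightLocal
import Groth.Agent.MorLib.GeomFibre
import Groth.Agent.AlgSpDec.Topo
import Groth.Agent.Triage.ZMTBir
import Groth.Agent.H23.RedSub

/-!
# The maximal locus of a fibre integral over an absolutely integrally closed domain is affine
-/

set_option autoImplicit false
set_option linter.style.haveILetI false
set_option backward.isDefEq.respectTransparency.types false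

open AlgebraicGeometry CategoryTheory Limits TopologicalSpace Topology

namespace Groth.Agent.MaxLoc

universe u

theorem isIntegral_closure_point {X : Scheme.{u}} (ξ : X) :
    IsIntegral (Scheme.IdealSheafData.vanishingIdeal (Closeds.closure {ξ})).subscheme := by
  set J := Scheme.IdealSheafData.vanishingIdeal (Closeds.closure {ξ})
  have hr : Set.range J.subschemeι = closure {ξ} := Groth.Agent.H23.RedSub.range_vanishingIdeal _
  obtain ⟨z, hz⟩ : ξ ∈ Set.range J.subschemeι := hr ▸ subset_closure rfl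
  have hd : closure {z} = (Set.univ : Set J.subscheme) := by
    rw [J.subschemeι.isClosedEmbedding.isInducing.closure_eq_preimage_closure_image,
      Set.image_singleton, hz, ← hr, Set.preimage_range]
  have : IrreducibleSpace J.subscheme :=
    (irreducibleSpace_def _).2 (show IsIrreducible (Set.univ : Set J.subscheme) from
      hd ▸ isIrreducible_singleton.closure)
  exact isIntegral_of_irreducibleSpace_of_isReduced _

theorem isLocallyConstant_of_isFinite {X Y : Scheme.{u}} (f : X ⟶ Y) [IsFinite f] (w : X → ℤ)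
    (hw : MoreMor.IsWeighting f w) : IsLocallyConstant (MoreMor.fibreIntegral f w) := by
  let e := pullback.fst f (𝟙 Y)
  haveI := MorLib.WT.isFinite_top (π := pullback.snd f (𝟙 Y))
  have h := hw Y (𝟙 Y) ⊤ (MorLib.WT.isFinite_top (π := pullback.snd f (𝟙 Y)))
  convert h using 1
  funext y
  have hp : IsPullback ((⊤ : (pullback f (𝟙 Y)).Opens).ι ≫ e)
      ((⊤ : (pullback f (𝟙 Y)).Opens).ι ≫ pullback.snd f (𝟙 Y)) f (𝟙 Y) := by
    haveI : IsIso (⊤ : (pullback f (𝟙 Y)).Opens).ι := (pullback f (𝟙 Y)).topIso.isIso_hom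
    exact IsPullback.of_horiz_isIso ⟨by simp [e, pullback.condition]⟩
  exact (MorLib.GF.fibreIntegral_baseChange (g := 𝟙 Y) hp w y (Scheme.Hom.finite_preimage_singleton _ _)).symm

theorem max_aux {X Y : Scheme.{u}} [IsAffine X] [IsAffine Y] [IsIntegral Y]
    (hN : ∀ y : Y, IsIntegrallyClosed (Y.presheaf.stalk y)) [IsAlgClosed Y.functionField]
    (f : X ⟶ Y) [LocallyQuasiFinite f] [LocallyOfFiniteType f]
    (w : X → ℤ) (hw : MoreMor.IsWeighting f w) (hpos : ∀ x, 0 < w x) (d : ℤ)
    (hmax : ∀ y, MoreMor.fibreIntegral f w y ≤ d)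
    (V : Y.Opens) (hV : (V : Set Y) = {y | MoreMor.fibreIntegral f w y = d}) (hne : (V : Set Y).Nonempty) :
    IsAffineOpen V := by
  classical
  haveI : IsSeparated f := inferInstance
  have hfin : ∀ y : Y, (f ⁻¹' {y}).Finite := fun y => f.finite_preimage_singleton y
  haveI hopen : UniversallyOpen f := Groth.Agent.S1420.result f w hw hpos
  obtain ⟨hVo, hVf⟩ := MorLib.WT.finite_over_max hfin hw hpos d hmax
  have hV' : V = (⟨_, hVo⟩ : Y.Opens) := Opens.ext hV
  haveI hfV : IsFinite (f ∣_ V) := hV' ▸ hVf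
  let η := genericPoint Y
  have hηV : η ∈ V := (genericPoint_spec Y).mem_open_set_iff V.2 |>.mpr (by simpa using hne)
  let F := f ⁻¹' {η}
  haveI : Finite F := (hfin η).to_subtype
  let Z : F → Closeds X := fun x => Closeds.closure {x.1}
  let C : F → Scheme.{u} := fun x => (Scheme.IdealSheafData.vanishingIdeal (Z x)).subscheme
  let j : ∀ x : F, C x ⟶ X := fun x => (Scheme.IdealSheafData.vanishingIdeal (Z x)).subschemeι
  haveI hint : ∀ x : F, IsIntegral (C x) := fun x => Groth.Agent.MaxLoc.isIntegral_closure_point x.1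
  haveI : ∀ x : F, IsAffine (C x) := fun x => isAffine_of_isAffineHom (j x)
  have hjr : ∀ x : F, Set.range (j x) = closure {x.1} := fun x => Groth.Agent.H23.RedSub.range_vanishingIdeal _
  have hgen : ∀ x : F, j x (genericPoint (C x)) = x.1 := fun x => by
    have h1 := (genericPoint_spec (C x)).image (j x).continuous
    rw [Set.image_univ, hjr, closure_closure] at h1
    exact h1.eq isGenericPoint_closure
  let q : ∀ x : F, C x ⟶ Y := fun x => j x ≫ f
  have hq : ∀ x : F, q x (genericPoint (C x)) = η := fun x => by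
    show f (j x (genericPoint (C x))) = η
    rw [hgen]; exact x.2
  haveI hqi : ∀ x : F, IsOpenImmersion (q x) := fun x => by
    refine Groth.Agent.Triage.ZMTBir.isOpenImmersion_of_birational hN (q x) (hq x) ?_
    haveI : IsIntegral (C x) := hint x
    let c := genericPoint (C x)
    refine (ConcreteCategory.isIso_iff_bijective _).mpr ?_
    have hfld : IsField (Y.presheaf.stalk (q x c)) := by
      rw [hq x]; exact Field.toIsField Y.functionField
    letI := hfld.toField
    refine ⟨RingHom.injective _, ?_⟩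
    haveI : IsAlgClosed (Y.presheaf.stalk (q x c)) := by
      have : ∀ (y : Y) (_ : y = η) (h : IsField (Y.presheaf.stalk y)),
          @IsAlgClosed (Y.presheaf.stalk y) h.toField := by
        rintro y rfl h
        convert (inferInstance : IsAlgClosed Y.functionField)
      exact this _ (hq x) hfld
    let K := (C x).presheaf.stalk c
    letI : Field K := inferInstanceAs (Field (C x).functionField)
    letI : Algebra (Y.presheaf.stalk (q x c)) K := ((q x).stalkMap c).hom.toAlgebra
    haveI : Algebra.IsIntegral (Y.presheaf.stalk (q x c)) K := by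
      have hfin := MorLib.GF.finite_residueFieldMap (q x) c
      constructor
      intro z
      obtain ⟨p, hp, hpz⟩ := hfin.to_isIntegral (IsLocalRing.residue K z)
      have hY : Function.Surjective (Y.residue (q x c)) := Scheme.residue_surjective _ _
      obtain ⟨p', hp', -, hp'm⟩ := Polynomial.lifts_and_degree_eq_and_monic
        (Polynomial.map_surjective _ hY p) hp
      refine ⟨p', hp'm, (IsLocalRing.residue K).injective ?_⟩
      rw [map_zero, Polynomial.hom_eval₂]
      rw [← hp', Polynomial.eval₂_map] at hpz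
      exact hpz
    exact (IsAlgClosed.algebraMap_bijective_of_isIntegral (k := Y.presheaf.stalk (q x c)) (K := K)).2
  let W : Y.Opens := ⨅ x : F, (q x).opensRange
  haveI : IsAffineHom (pullback.diagonal (terminal.from Y)) := inferInstance
  have hWaff : IsAffineOpen W := by
    rcases isEmpty_or_nonempty F with hF | hF
    · simp only [W, iInf_of_empty]; exact isAffineOpen_top Y
    · exact IsAffineOpen.iInf fun x => isAffineOpen_opensRange (q x)
  have hWmem : ∀ y, y ∈ W ↔ ∀ x : F, y ∈ Set.range (q x) := fun y => by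
    simp [W, ← SetLike.mem_coe, Opens.coe_iInf]
  suffices V = W by rw [this]; exact hWaff
  refine le_antisymm (fun y hy => (hWmem y).mpr fun x => ?_) ?_
  · have hspec : η ⤳ y := genericPoint_specializes y
    have hcl : IsClosed ((f ∣_ V) '' ((f ⁻¹ᵁ V).ι ⁻¹' closure {x.1})) :=
      (f ∣_ V).isClosedMap _ (isClosed_closure.preimage (f ⁻¹ᵁ V).ι.continuous)
    have hxV : x.1 ∈ f ⁻¹ᵁ V := by show f x.1 ∈ V; rw [x.2]; exact hηV
    have hη : (⟨η, hηV⟩ : V) ∈ (f ∣_ V) '' ((f ⁻¹ᵁ V).ι ⁻¹' closure {x.1}) :=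
      ⟨⟨x.1, hxV⟩, subset_closure rfl, Subtype.ext ((morphismRestrict_base_coe f V _).trans x.2)⟩
    obtain ⟨z, hz, hzy⟩ := (subtype_specializes_iff (⟨η, hηV⟩ : V) ⟨y, hy⟩).mpr hspec |>.mem_closed hcl hη
    obtain ⟨c, hc⟩ : z.1 ∈ Set.range (j x) := (hjr x).symm ▸ hz
    refine ⟨c, ?_⟩
    show f (j x c) = y
    rw [hc]
    exact (morphismRestrict_base_coe f V z).symm.trans (congrArg Subtype.val hzy)
  · have hcov : ∀ t : X, f t ∈ W → ∃ x : F, t ∈ closure {x.1} := by
      intro t _
      obtain ⟨s, hs, hsη⟩ := Groth.Agent.AlgSpDec.exists_specializes_of_isOpenMap f.isOpenMap (hfin η)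
        (genericPoint_specializes (f t))
      exact ⟨⟨s, hsη⟩, specializes_iff_mem_closure.mp hs⟩
    haveI hWf : IsFinite (f ∣_ W) := by
      haveI : UniversallyClosed (f ∣_ W) := by
        let r : ∀ x : F, (q x ⁻¹ᵁ W : (C x).Opens).toScheme ⟶ (f ⁻¹ᵁ W).toScheme := fun x => (j x).resLE _ _ le_rfl
        have hr : ∀ x, r x ≫ f ∣_ W = q x ∣_ W := fun x => by
          rw [← cancel_mono W.ι, Category.assoc, morphismRestrict_ι, morphismRestrict_ι, Scheme.Hom.resLE_comp_ι_assoc]
        haveI : ∀ x, IsIso (q x ∣_ W) := fun x => by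
          refine (isIso_iff_isOpenImmersion_and_surjective _).mpr ⟨?_, ?_⟩
          · exact MorphismProperty.of_isPullback (isPullback_morphismRestrict (q x) W).flip (hqi x)
          · refine ⟨fun y => ?_⟩
            obtain ⟨c, hc⟩ := (hWmem y.1).mp y.2 x
            exact ⟨⟨c, show q x c ∈ W by rw [hc]; exact y.2⟩, Subtype.ext ((morphismRestrict_base_coe (q x) W _).trans hc)⟩
        let s : ∐ (fun x : F => (q x ⁻¹ᵁ W).toScheme) ⟶ (f ⁻¹ᵁ W).toScheme := Sigma.desc r
        haveI : Surjective s := by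
          refine Surjective.sigmaDesc_of_union_range_eq_univ ?_
          refine Set.eq_univ_of_forall fun t => Set.mem_iUnion.mpr ?_
          obtain ⟨x, hx⟩ := hcov t.1 t.2
          obtain ⟨c, hc⟩ : t.1 ∈ Set.range (j x) := (hjr x).symm ▸ hx
          refine ⟨x, ⟨c, show f (j x c) ∈ W by rw [hc]; exact t.2⟩, Subtype.ext ?_⟩
          refine Eq.trans ?_ hc
          exact congr($(Scheme.Hom.resLE_comp_ι (j x) (le_refl (j x ⁻¹ᵁ (f ⁻¹ᵁ W)))) ⟨c, _⟩)
        haveI : UniversallyClosed (s ≫ f ∣_ W) := by
          rw [show s ≫ f ∣_ W = Sigma.desc (fun x => q x ∣_ W) from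
            Sigma.hom_ext _ _ fun x => by simp [s, hr]]
          haveI : ∀ x : F, IsFinite (q x ∣_ W) := fun x => inferInstance
          exact Groth.Agent.MorLib.WT.universallyClosed_of_cover _
            (fun x => (Sigma.ι (fun x : F => (q x ⁻¹ᵁ W).toScheme) x).opensRange)
            (fun t => by
              obtain ⟨⟨x, y⟩, rfl⟩ := (sigmaMk _).surjective t
              exact ⟨x, y, (sigmaMk_mk (fun x : F => (q x ⁻¹ᵁ W).toScheme) x y).symm⟩)
            (fun x => by
              rw [← Scheme.Hom.isoOpensRange_inv_comp, Category.assoc, Sigma.ι_desc]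
              infer_instance)
        exact UniversallyClosed.of_comp_surjective s (f ∣_ W)
      haveI : IsProper (f ∣_ W) := {}
      exact IsFinite.of_isProper_of_locallyQuasiFinite (f ∣_ W)
    intro y hy
    let iW := W.ι
    have hpb : IsPullback (f ⁻¹ᵁ W).ι (f ∣_ W) f iW := (isPullback_morphismRestrict f W).flip
    have hlc : IsLocallyConstant (MoreMor.fibreIntegral (f ∣_ W) (w ∘ (f ⁻¹ᵁ W).ι)) := by
      have h := Groth.Agent.S1419.result f w hw (f ∣_ W) (f ⁻¹ᵁ W).ι iW hpb
      exact Groth.Agent.MaxLoc.isLocallyConstant_of_isFinite (f ∣_ W) _ h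
    have hηW : η ∈ W := (genericPoint_spec Y).mem_open_set_iff W.2 |>.mpr ⟨y, trivial, hy⟩
    have := ((subtype_specializes_iff (⟨η, hηW⟩ : W) ⟨y, hy⟩).mpr (genericPoint_specializes y)).mem_open (hlc.isOpen_fiber (MoreMor.fibreIntegral (f ∣_ W) (w ∘ (f ⁻¹ᵁ W).ι) ⟨y, hy⟩)) rfl
    have := (Set.mem_setOf_eq ▸ this).symm
    rw [Groth.Agent.S1418.result f hfin _ _ _ hpb, Groth.Agent.S1418.result f hfin _ _ _ hpb] at this
    have hη' : η ∈ (V : Set Y) := hηV
    rw [hV] at hη'
    show y ∈ (V : Set Y)
    rw [hV]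
    exact this.trans hη'

end Groth.Agent.MaxLoc
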