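import Groth.Agent.AffStrat.MaxLocus
import Groth.Agent.AffStrat.Irred
import Groth.Agent.S1418
import Groth.Agent.S1419
import Groth.Agent.AffStrat.Compact
import Groth.Agent.MorLib.WeightPositive
import Groth.Agent.ProConsLib.Basic

/-!
# The maximal locus of a fibre integral is affine
-/

set_option autoImplicit false
set_option linter.style.haveILetI false
set_option backward.isDefEq.respectTransparency.types false

open AlgebraicGeometry CategoryTheory Limits TopologicalSpace Topology

namespace Groth.Agent.MaxLoc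

universe u

theorem stalk_closed {B : Type u} [CommRing B] [IsDomain B] [IsIntegrallyClosed B] (c : ↥(Spec (CommRingCat.of B))) :
    IsIntegrallyClosed ((Spec (CommRingCat.of B)).presheaf.stalk c) := by
  letI : Algebra B ((Spec (CommRingCat.of B)).presheaf.stalk c) := StructureSheaf.stalkAlgebra B c
  haveI : IsLocalization.AtPrime ((Spec (CommRingCat.of B)).presheaf.stalk c) c.asIdeal :=
    StructureSheaf.IsLocalization.to_stalk (CommRingCat.of B) c
  haveI : IsDomain ((Spec (CommRingCat.of B)).presheaf.stalk c) :=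
    IsLocalization.isDomain_of_le_nonZeroDivisors ((Spec (CommRingCat.of B)).presheaf.stalk c)
      (M := c.asIdeal.primeCompl)
      c.asIdeal.primeCompl_le_nonZeroDivisors
  exact isIntegrallyClosed_of_isLocalization _ c.asIdeal.primeCompl c.asIdeal.primeCompl_le_nonZeroDivisors

theorem isAlgClosed_functionField (B : CommRingCat.{u}) [IsDomain B] (Ω : Type u) [Field Ω] [IsAlgClosed Ω]
    [Algebra B Ω] [IsFractionRing B Ω] : IsAlgClosed (Spec B).functionField :=
  IsAlgClosed.of_ringEquiv Ω _ (IsLocalization.algEquiv (nonZeroDivisors B) Ω (Spec B).functionField).toRingEquiv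

theorem exists_aic_cover (D : Type u) [CommRing D] [IsDomain D] :
    ∃ (R : Scheme.{u}) (g : R ⟶ Spec (CommRingCat.of D)), IsAffine R ∧ IsIntegralHom g ∧ Surjective g ∧
      ∃ (_ : IsIntegral R), (∀ y : R, IsIntegrallyClosed (R.presheaf.stalk y)) ∧ IsAlgClosed R.functionField := by
  let K := FractionRing D
  let Ω := AlgebraicClosure K
  let R := integralClosure D Ω
  haveI : Algebra.IsAlgebraic D Ω := IsFractionRing.comap_isAlgebraic_iff.mpr (inferInstance : Algebra.IsAlgebraic K Ω)
  have inj : Function.Injective (algebraMap D Ω) := by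
    rw [IsScalarTower.algebraMap_eq D K Ω]
    exact (algebraMap K Ω).injective.comp (IsFractionRing.injective D K)
  haveI : IsFractionRing R Ω := integralClosure.isFractionRing_of_algebraic
    fun x hx => inj (by rw [hx, map_zero])
  haveI : IsIntegrallyClosed R := by
    refine (isIntegrallyClosed_iff Ω).mpr fun {x} hx => ?_
    exact ⟨⟨x, isIntegral_trans x hx⟩, rfl⟩
  haveI : Algebra.IsIntegral D R := inferInstance
  let S := Spec (CommRingCat.of R)
  refine ⟨S, Spec.map (CommRingCat.ofHom (algebraMap D R)), inferInstance, ?_, ?_, inferInstance, ?_, ?_⟩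
  · exact (IsIntegralHom.SpecMap_iff).mpr (algebraMap_isIntegral_iff.mpr inferInstance)
  · refine ⟨fun p => ?_⟩
    have hR : Function.Injective (algebraMap D R) := fun a b h => inj (congrArg Subtype.val h)
    haveI : FaithfulSMul D R := (faithfulSMul_iff_algebraMap_injective _ _).mpr hR
    exact Algebra.IsIntegral.comap_surjective (R := D) (S := R) p
  · exact fun y => (Groth.Agent.MaxLoc.stalk_closed y)
  · exact isAlgClosed_functionField (CommRingCat.of R) Ω

theorem isAffineOpen_max {X Y : Scheme.{u}} (f : X ⟶ Y) [LocallyQuasiFinite f] [QuasiCompact f]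
    [LocallyOfFiniteType f] [IsAffine X] [IsAffine Y]
    (w : X → ℤ) (hw : MoreMor.IsWeighting f w) (hpos : ∀ x, 0 < w x) (d : ℤ)
    (hmax : ∀ y : Y, MoreMor.fibreIntegral f w y ≤ d) :
    ∃ hYd : IsOpen {y : Y | MoreMor.fibreIntegral f w y = d},
      IsAffineOpen (⟨{y : Y | MoreMor.fibreIntegral f w y = d}, hYd⟩ : Y.Opens) := by
  have hfin : ∀ y : Y, (f ⁻¹' {y}).Finite := fun y => f.finite_preimage_singleton y
  obtain ⟨hYd, -⟩ := MorLib.WT.finite_over_max hfin hw hpos d hmax
  refine ⟨hYd, ?_⟩
  let U : Y.Opens := ⟨_, hYd⟩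
  show IsAffineOpen U
  let e := Y.isoSpec
  let U' : (Spec Γ(Y, ⊤)).Opens := e.inv ⁻¹ᵁ U
  suffices h : IsAffineOpen U' by
    have h2 := h.preimage e.hom
    rwa [show e.hom ⁻¹ᵁ U' = U by rw [← Scheme.Hom.comp_preimage, e.hom_inv_id]; rfl] at h2
  have hUc : IsCompact (U : Set Y) := by
    have h := MorLib.WT.isCompact_superlevel (f := f) hw hpos (d - 1) (⊤ : Y.Opens) CompactSpace.isCompact_univ
    convert h using 1
    ext y
    have := hmax y
    show MoreMor.fibreIntegral f w y = d ↔ True ∧ d - 1 < MoreMor.fibreIntegral f w y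
    constructor
    · intro h'; exact ⟨trivial, by omega⟩
    · rintro ⟨-, h'⟩; omega
  refine IrredTest.isAffineOpen_of_forall_prime Γ(Y, ⊤) U' (e.inv.isCompact_preimage hUc) fun p hp => ?_
  haveI : IsDomain (Γ(Y, ⊤) ⧸ p) := (Ideal.Quotient.isDomain_iff_prime p).mpr hp
  obtain ⟨R, g, hR, hgi, hgs, hint, hN, halg⟩ := exists_aic_cover (Γ(Y, ⊤) ⧸ p)
  let W := IrredTest.qm Γ(Y, ⊤) p ⁻¹ᵁ U'
  let φ : R ⟶ Y := g ≫ IrredTest.qm Γ(Y, ⊤) p ≫ e.inv
  suffices h : IsAffineOpen (φ ⁻¹ᵁ U) by
    haveI : IsAffine (g ⁻¹ᵁ W).toScheme := h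
    haveI : Surjective (g ∣_ W) := MorphismProperty.of_isPullback (isPullback_morphismRestrict g W).flip hgs
    haveI : IsIntegralHom (g ∣_ W) := MorphismProperty.of_isPullback (isPullback_morphismRestrict g W).flip hgi
    exact LimChev.isAffine_of_surjective (g ∣_ W)
  let V := φ ⁻¹ᵁ U
  rcases (V : Set R).eq_empty_or_nonempty with hV | hV
  · haveI : IsEmpty V.toScheme := ⟨fun x => by simpa [hV] using (show x.1 ∈ (V : Set R) from x.2)⟩
    exact (isAffine_of_isEmpty : IsAffine V.toScheme)
  haveI : IsAffine (pullback f φ) := inferInstance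
  have sq := IsPullback.of_hasPullback f φ
  haveI : LocallyQuasiFinite (pullback.snd f φ) := MorphismProperty.pullback_snd _ _ inferInstance
  haveI : LocallyOfFiniteType (pullback.snd f φ) := MorphismProperty.pullback_snd _ _ inferInstance
  have hint' : ∀ y : R, MoreMor.fibreIntegral (pullback.snd f φ) (w ∘ pullback.fst f φ) y = MoreMor.fibreIntegral f w (φ y) :=
    fun y => Groth.Agent.S1418.result f hfin _ _ _ sq w y
  refine max_aux hN (pullback.snd f φ) (w ∘ pullback.fst f φ) (Groth.Agent.S1419.result f w hw _ _ _ sq)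
    (fun x => hpos _) d (fun y => (hint' y).trans_le (hmax _)) V ?_ hV
  ext y
  simp only [hint', Set.mem_ofPred_eq]
  rfl

end Groth.Agent.MaxLoc
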