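import Groth.Agent.AffStrat.MaxMain
import Groth.Agent.AffStrat.Compact
import Groth.Agent.H23.RedSub

/-!
# Affine stratification by a positive weighting
-/

set_option autoImplicit false
set_option linter.style.haveILetI false
set_option backward.isDefEq.respectTransparency.types false

open AlgebraicGeometry CategoryTheory Limits TopologicalSpace Topology

namespace Groth.Agent.MaxLoc

universe u

/-- The maximal locus is affine over a separated base, for an affine source. -/
theorem stratum {X C : Scheme.{u}} (f : X ⟶ C) [LocallyQuasiFinite f] [LocallyOfFiniteType f] [QuasiCompact f]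
    [Surjective f] [IsAffine X] [C.IsSeparated] (w : X → ℤ) (hw : MoreMor.IsWeighting f w) (hpos : ∀ x, 0 < w x)
    (d : ℤ) (hmax : ∀ y, MoreMor.fibreIntegral f w y ≤ d) :
    ∃ U : C.Opens, (U : Set C) = {y | MoreMor.fibreIntegral f w y = d} ∧ IsAffineHom U.ι ∧ IsAffine U := by
  haveI : IsSeparated f := inferInstance
  haveI : IsSeparated (terminal.from C) := Scheme.IsSeparated.isSeparated_terminal_from
  haveI : IsAffineHom (f ≫ terminal.from C) := inferInstance
  haveI : IsAffineHom f := IsAffineHom.of_comp f (terminal.from C)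
  have hfin : ∀ y : C, (f ⁻¹' {y}).Finite := fun y => f.finite_preimage_singleton y
  obtain ⟨hUo, hUf⟩ := MorLib.WT.finite_over_max hfin hw hpos d hmax
  let U : C.Opens := ⟨_, hUo⟩
  haveI hUι : IsAffineHom U.ι := by
    refine ⟨fun V hV => ?_⟩
    rw [← U.ι.isAffineOpen_iff_of_isOpenImmersion, Scheme.Hom.image_preimage_eq_opensRange_inf,
      Scheme.Opens.opensRange_ι]
    haveI : IsAffine V.toScheme := hV
    have hXV : IsAffineOpen (f ⁻¹ᵁ V) := hV.preimage f
    haveI : IsAffine (f ⁻¹ᵁ V).toScheme := hXV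
    have sq := (isPullback_morphismRestrict f V).flip
    haveI : LocallyQuasiFinite (f ∣_ V) := MorphismProperty.of_isPullback sq inferInstance
    haveI : LocallyOfFiniteType (f ∣_ V) := MorphismProperty.of_isPullback sq inferInstance
    have hint : ∀ v : V, MoreMor.fibreIntegral (f ∣_ V) (w ∘ (f ⁻¹ᵁ V).ι) v = MoreMor.fibreIntegral f w v.1 :=
      fun v => Groth.Agent.S1418.result f hfin _ _ _ sq w v
    obtain ⟨hWo, hW⟩ := isAffineOpen_max (f ∣_ V) (w ∘ (f ⁻¹ᵁ V).ι) (Groth.Agent.S1419.result f w hw _ _ _ sq)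
      (fun x => hpos _) d (fun v => (hint v).trans_le (hmax _))
    have h := hW.image_of_isOpenImmersion V.ι
    have e : V.ι ''ᵁ ⟨_, hWo⟩ = U ⊓ V := by
      ext y
      constructor
      · rintro ⟨v, hv, rfl⟩
        exact ⟨(hint v).symm.trans hv, v.2⟩
      · rintro ⟨h1, h2⟩
        exact ⟨⟨y, h2⟩, (hint ⟨y, h2⟩).trans h1, rfl⟩
    rwa [e] at h
  refine ⟨U, rfl, hUι, ?_⟩
  haveI : IsFinite (f ∣_ U) := hUf
  haveI : Surjective (f ∣_ U) :=
    MorphismProperty.of_isPullback (isPullback_morphismRestrict f U).flip inferInstance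
  haveI : IsAffineHom (f ⁻¹ᵁ U).ι :=
    MorphismProperty.of_isPullback (isPullback_morphismRestrict f U) hUι
  haveI : IsAffine (f ⁻¹ᵁ U).toScheme := isAffine_of_isAffineHom (f ⁻¹ᵁ U).ι
  exact LimChev.isAffine_of_surjective (f ∣_ U)

theorem hasAffineStratification {X Y : Scheme.{u}} (f : X ⟶ Y) [Surjective f] [LocallyQuasiFinite f]
    [LocallyOfFiniteType f] [QuasiCompact f] [IsAffine X] [Y.IsSeparated] [Nonempty Y]
    (w : X → ℤ) (hw : MoreMor.IsWeighting f w) (hpos : ∀ x, 0 < w x)
    (k : ℕ) (hk : (Set.range (MoreMor.fibreIntegral f w)).ncard = k)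
    (hkfin : (Set.range (MoreMor.fibreIntegral f w)).Finite) :
    MoreMor.HasAffineStratification Y (k - 1) := by
  classical
  haveI : IsSeparated f := inferInstance
  have hfin : ∀ y : Y, (f ⁻¹' {y}).Finite := fun y => f.finite_preimage_singleton y
  let F := hkfin.toFinset
  have hF : F.card = k - 1 + 1 := by
    have h1 : F.card = k := by rw [← hk, Set.ncard_eq_toFinset_card _ hkfin]
    have h2 : 0 < F.card := Finset.card_pos.mpr
      ⟨_, hkfin.mem_toFinset.mpr ⟨Classical.arbitrary Y, rfl⟩⟩
    omega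
  let e := F.orderIsoOfFin hF
  let s : Y → Fin (k - 1 + 1) := fun y => e.symm ⟨MoreMor.fibreIntegral f w y, hkfin.mem_toFinset.mpr ⟨y, rfl⟩⟩
  have hs : ∀ y i, s y ≤ i ↔ MoreMor.fibreIntegral f w y ≤ (e i).1 := fun y i => e.symm_apply_le.trans Iff.rfl
  have hse : ∀ y i, s y = i ↔ MoreMor.fibreIntegral f w y = (e i).1 := fun y i => by
    rw [show (s y = i) ↔ _ from e.symm_apply_eq, Subtype.ext_iff]
  have hcl : ∀ i, IsClosed {y : Y | s y ≤ i} := fun i => by
    have := (MorLib.WT.lowerSemicontinuous_fibreIntegral hfin hw hpos).isClosed_preimage (e i).1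
    convert this using 1
    ext y
    exact hs y i
  refine ⟨s, hcl, fun i => ?_⟩
  let Z : Closeds Y := ⟨_, hcl i⟩
  let C := (Scheme.IdealSheafData.vanishingIdeal Z).subscheme
  let j : C ⟶ Y := (Scheme.IdealSheafData.vanishingIdeal Z).subschemeι
  have hr : Set.range j = Z := Groth.Agent.H23.RedSub.range_vanishingIdeal _
  have sq := IsPullback.of_hasPullback f j
  haveI : LocallyQuasiFinite (pullback.snd f j) := MorphismProperty.pullback_snd _ _ inferInstance
  haveI : LocallyOfFiniteType (pullback.snd f j) := MorphismProperty.pullback_snd _ _ inferInstance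
  haveI : QuasiCompact (pullback.snd f j) := MorphismProperty.pullback_snd _ _ inferInstance
  haveI : Surjective (pullback.snd f j) := MorphismProperty.pullback_snd _ _ inferInstance
  haveI : IsClosedImmersion (pullback.fst f j) := MorphismProperty.pullback_fst _ _ inferInstance
  haveI : IsAffine (pullback f j) := isAffine_of_isAffineHom (pullback.fst f j)
  haveI : C.IsSeparated := by
    constructor
    rw [← terminal.comp_from j]
    haveI : IsSeparated (terminal.from Y) := Scheme.IsSeparated.isSeparated_terminal_from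
    infer_instance
  have hint : ∀ c : C, MoreMor.fibreIntegral (pullback.snd f j) (w ∘ pullback.fst f j) c = MoreMor.fibreIntegral f w (j c) :=
    fun c => Groth.Agent.S1418.result f hfin _ _ _ sq w c
  obtain ⟨U, hU, hUa, hUaff⟩ := stratum (pullback.snd f j) (w ∘ pullback.fst f j) (Groth.Agent.S1419.result f w hw _ _ _ sq)
    (fun x => hpos _) (e i).1 (fun c => (hint c).trans_le
      ((hs _ i).mp (show j c ∈ (Z : Set Y) from hr ▸ ⟨c, rfl⟩)))
  refine ⟨U, U.ι ≫ j, inferInstance, hUaff, inferInstance, ?_⟩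
  ext y
  constructor
  · rintro ⟨u, rfl⟩
    refine (hse _ i).mpr ?_
    have : u.1 ∈ (U : Set C) := u.2
    rw [hU] at this
    exact (hint _).symm.trans this
  · intro hy
    have hyi : s y = i := hy
    obtain ⟨c, rfl⟩ : y ∈ Set.range j := hr ▸ hyi.le
    have hc : c ∈ (U : Set C) := by
      rw [hU]; exact (hint c).trans ((hse _ i).mp hyi)
    exact ⟨⟨c, hc⟩, rfl⟩

end Groth.Agent.MaxLoc
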